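import Cfsg.Agent.Lib.Recog.SporBound.Fi22D.Part0
import Cfsg.Agent.Lib.Recog.SporBound.Fi22D.Part1
import Cfsg.Agent.Lib.Recog.SporBound.Fi22D.Part2
import Cfsg.Agent.Lib.Recog.SporBound.Fi22D.Part3
import Cfsg.Agent.Lib.Recog.SporBound.Fi22D.Part4
import Cfsg.Agent.Lib.Recog.SporBound.Fi22D.Part5
import Cfsg.Agent.Lib.Recog.SporBound.Fi22D.Part6
import Cfsg.Agent.Lib.Recog.SporBound.Fi22D.Part7
import Cfsg.Agent.Lib.Recog.SporBound.Fi22D.Part8
import Cfsg.Agent.Lib.Recog.SporBound.Fi22D.Part9
import Cfsg.Agent.Lib.Recog.SporBound.Fi22D.Part10

set_option autoImplicit false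
set_option maxRecDepth 20000

/-! The certificate is valid. -/

namespace CfsgLib.Recog.SporBound.Fi22D
open CfsgLib.Recog.SporBound
open CfsgLib.ThreeTrans.CosetIndex (forallFrom)

theorem defs_all : forallFrom cert.defOK 0 (cert.nd) = true := by
  have h0 := defs0
  have h1 : forallFrom cert.defOK 0 3000 = true := forallFrom_cat h0 defs1 (by decide +kernel) (by decide +kernel)
  have h2 : forallFrom cert.defOK 0 4500 = true := forallFrom_cat h1 defs2 (by decide +kernel) (by decide +kernel)
  have h3 : forallFrom cert.defOK 0 6000 = true := forallFrom_cat h2 defs3 (by decide +kernel) (by decide +kernel)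
  have h4 : forallFrom cert.defOK 0 7500 = true := forallFrom_cat h3 defs4 (by decide +kernel) (by decide +kernel)
  have h5 : forallFrom cert.defOK 0 9000 = true := forallFrom_cat h4 defs5 (by decide +kernel) (by decide +kernel)
  have h6 : forallFrom cert.defOK 0 10500 = true := forallFrom_cat h5 defs6 (by decide +kernel) (by decide +kernel)
  have h7 : forallFrom cert.defOK 0 12000 = true := forallFrom_cat h6 defs7 (by decide +kernel) (by decide +kernel)
  have h8 : forallFrom cert.defOK 0 13500 = true := forallFrom_cat h7 defs8 (by decide +kernel) (by decide +kernel)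
  have h9 : forallFrom cert.defOK 0 15000 = true := forallFrom_cat h8 defs9 (by decide +kernel) (by decide +kernel)
  have h10 : forallFrom cert.defOK 0 15984 = true := forallFrom_cat h9 defs10 (by decide +kernel) (by decide +kernel)
  exact (show 15984 = cert.nd by decide +kernel) ▸ h10

theorem steps_all : cert.stepsPart 0 (cert.stepChunks) = true := by
  have h0 := steps0
  have h1 : cert.stepsPart 0 120 = true := Cert.stepsPart_cat h0 steps1 (by decide +kernel) (by decide +kernel)
  have h2 : cert.stepsPart 0 180 = true := Cert.stepsPart_cat h1 steps2 (by decide +kernel) (by decide +kernel)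
  have h3 : cert.stepsPart 0 240 = true := Cert.stepsPart_cat h2 steps3 (by decide +kernel) (by decide +kernel)
  have h4 : cert.stepsPart 0 300 = true := Cert.stepsPart_cat h3 steps4 (by decide +kernel) (by decide +kernel)
  have h5 : cert.stepsPart 0 360 = true := Cert.stepsPart_cat h4 steps5 (by decide +kernel) (by decide +kernel)
  have h6 : cert.stepsPart 0 420 = true := Cert.stepsPart_cat h5 steps6 (by decide +kernel) (by decide +kernel)
  have h7 : cert.stepsPart 0 480 = true := Cert.stepsPart_cat h6 steps7 (by decide +kernel) (by decide +kernel)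
  have h8 : cert.stepsPart 0 540 = true := Cert.stepsPart_cat h7 steps8 (by decide +kernel) (by decide +kernel)
  have h9 : cert.stepsPart 0 600 = true := Cert.stepsPart_cat h8 steps9 (by decide +kernel) (by decide +kernel)
  have h10 : cert.stepsPart 0 660 = true := Cert.stepsPart_cat h9 steps10 (by decide +kernel) (by decide +kernel)
  have h11 : cert.stepsPart 0 720 = true := Cert.stepsPart_cat h10 steps11 (by decide +kernel) (by decide +kernel)
  have h12 : cert.stepsPart 0 780 = true := Cert.stepsPart_cat h11 steps12 (by decide +kernel) (by decide +kernel)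
  have h13 : cert.stepsPart 0 840 = true := Cert.stepsPart_cat h12 steps13 (by decide +kernel) (by decide +kernel)
  have h14 : cert.stepsPart 0 900 = true := Cert.stepsPart_cat h13 steps14 (by decide +kernel) (by decide +kernel)
  have h15 : cert.stepsPart 0 919 = true := Cert.stepsPart_cat h14 steps15 (by decide +kernel) (by decide +kernel)
  exact (show 919 = cert.stepChunks by decide +kernel) ▸ h15

theorem finals_all : cert.finalsPart 0 (cert.finalChunks) = true := by
  have h0 := finals0
  have h1 : cert.finalsPart 0 300 = true := Cert.finalsPart_cat h0 finals1 (by decide +kernel) (by decide +kernel)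
  have h2 : cert.finalsPart 0 450 = true := Cert.finalsPart_cat h1 finals2 (by decide +kernel) (by decide +kernel)
  have h3 : cert.finalsPart 0 600 = true := Cert.finalsPart_cat h2 finals3 (by decide +kernel) (by decide +kernel)
  have h4 : cert.finalsPart 0 750 = true := Cert.finalsPart_cat h3 finals4 (by decide +kernel) (by decide +kernel)
  have h5 : cert.finalsPart 0 900 = true := Cert.finalsPart_cat h4 finals5 (by decide +kernel) (by decide +kernel)
  have h6 : cert.finalsPart 0 1050 = true := Cert.finalsPart_cat h5 finals6 (by decide +kernel) (by decide +kernel)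
  have h7 : cert.finalsPart 0 1200 = true := Cert.finalsPart_cat h6 finals7 (by decide +kernel) (by decide +kernel)
  have h8 : cert.finalsPart 0 1350 = true := Cert.finalsPart_cat h7 finals8 (by decide +kernel) (by decide +kernel)
  have h9 : cert.finalsPart 0 1500 = true := Cert.finalsPart_cat h8 finals9 (by decide +kernel) (by decide +kernel)
  have h10 : cert.finalsPart 0 1650 = true := Cert.finalsPart_cat h9 finals10 (by decide +kernel) (by decide +kernel)
  have h11 : cert.finalsPart 0 1800 = true := Cert.finalsPart_cat h10 finals11 (by decide +kernel) (by decide +kernel)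
  have h12 : cert.finalsPart 0 1950 = true := Cert.finalsPart_cat h11 finals12 (by decide +kernel) (by decide +kernel)
  have h13 : cert.finalsPart 0 1980 = true := Cert.finalsPart_cat h12 finals13 (by decide +kernel) (by decide +kernel)
  exact (show 1980 = cert.finalChunks by decide +kernel) ▸ h13

theorem ok : cert.OK where
  base := by decide +kernel
  defs := defs_all
  steps := steps_all
  finals := finals_all

end CfsgLib.Recog.SporBound.Fi22D
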