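import Cfsg.Agent.Lib.Recog.SporBound.Sound
import Cfsg.Agent.Lib.Recog.SporBound.Fi22D.Tree0
import Cfsg.Agent.Lib.Recog.SporBound.Fi22D.Tree1
import Cfsg.Agent.Lib.Recog.SporBound.Fi22D.Tree2
import Cfsg.Agent.Lib.Recog.SporBound.Fi22D.Tree3
import Cfsg.Agent.Lib.Recog.SporBound.Fi22D.Tree4
import Cfsg.Agent.Lib.Recog.SporBound.Fi22D.Tree5
import Cfsg.Agent.Lib.Recog.SporBound.Fi22D.Tree6
import Cfsg.Agent.Lib.Recog.SporBound.Fi22D.Tree7
import Cfsg.Agent.Lib.Recog.SporBound.Fi22D.Tree8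
import Cfsg.Agent.Lib.Recog.SporBound.Fi22D.Tree9
import Cfsg.Agent.Lib.Recog.SporBound.Fi22D.Tree10
import Cfsg.Agent.Lib.Recog.SporBound.Fi22D.Tree11
import Cfsg.Agent.Lib.Recog.SporBound.Fi22D.Tree12
import Cfsg.Agent.Lib.Recog.SporBound.Fi22D.Tree13
import Cfsg.Agent.Lib.Recog.SporBound.Fi22D.Tree14
import Cfsg.Agent.Lib.Recog.SporBound.Fi22D.Tree15

set_option autoImplicit false
set_option maxRecDepth 20000

/-! Generated closure certificate: presented Fi22, the group over <b..i> (owner: lead). -/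

namespace CfsgLib.Recog.SporBound.Fi22D
open CfsgLib.Recog.SporBound

noncomputable def factTree : Q (ℕ) := (.node (.node (.node ft10 ft20 ft30 ft40) (.node ft51 ft61 ft71 ft81) (.node ft92 ft102 ft112 ft122) (.node ft132 ft142 ft152 ft162)) (.node (.node ft173 ft183 ft193 ft203) (.node ft214 ft224 ft234 ft244) (.node ft254 ft264 ft274 ft284) (.node ft294 ft304 ft314 ft324)) (.node (.node ft335 ft345 ft355 ft365) (.node ft376 ft386 ft396 ft406) (.node ft416 ft426 ft436 ft446) (.node ft456 ft466 ft476 ft486)) (.node (.node ft497 ft507 ft517 ft527) (.node ft538 ft548 ft558 ft568) (.node ft578 ft588 ft598 ft608) (.node ft618 ft628 ft638 ft648)))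
noncomputable def nodeTree : Q (ℕ) := (.node (.node ct7 ct15 ct23 ct31) (.node ct39 ct47 ct55 ct63) (.node ct71 ct79 ct87 ct94) (.node ct102 ct110 ct118 ct125))
noncomputable def stepTree : Q (List ℕ) := (.node (.node (.node st15 st31 st46 st61) (.node st77 st93 st108 st123) (.node st139 st154 st169 st184) (.node st200 st215 st230 st245)) (.node (.node st261 st277 st292 st307) (.node st323 st339 st354 st369) (.node st385 st400 st415 st430) (.node st446 st461 st476 st491)) (.node (.node st507 st523 st538 st553) (.node st569 st585 st600 st615) (.node st631 st646 st661 st676) (.node st692 st707 st722 st737)) (.node (.node st753 st769 st784 st799) (.node st815 st830 st845 st860) (.node st876 st891 st906 st921) (.node st937 st952 st967 st982)))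
noncomputable def finalTree : Q (List ℕ) := (.node (.node (.node (.node et8 et17 et26 et34) (.node et43 et52 et61 et69) (.node et78 et87 et96 et104) (.node et113 et122 et131 et139)) (.node (.node et148 et157 et166 et174) (.node et183 et192 et201 et209) (.node et218 et227 et236 et244) (.node et253 et262 et271 et279)) (.node (.node et288 et297 et306 et314) (.node et323 et332 et341 et349) (.node et358 et367 et376 et384) (.node et393 et402 et411 et419)) (.node (.node et428 et437 et446 et454) (.node et463 et472 et481 et489) (.node et498 et507 et516 et524) (.node et533 et542 et550 et558))) (.node (.node (.node et567 et576 et585 et593) (.node et602 et611 et620 et628) (.node et637 et646 et655 et663) (.node et672 et681 et690 et698)) (.node (.node et707 et716 et725 et733) (.node et742 et751 et760 et768) (.node et777 et786 et795 et803) (.node et812 et821 et830 et838)) (.node (.node et847 et856 et865 et873) (.node et882 et891 et900 et908) (.node et917 et926 et935 et943)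 (.node et952 et961 et970 et978)) (.node (.node et987 et996 et1005 et1013) (.node et1022 et1031 et1040 et1048) (.node et1057 et1066 et1075 et1083) (.node et1092 et1101 et1109 et1117))) (.node (.node (.node et1126 et1135 et1144 et1152) (.node et1161 et1170 et1179 et1187) (.node et1196 et1205 et1214 et1222) (.node et1231 et1240 et1249 et1257)) (.node (.node et1266 et1275 et1284 et1292) (.node et1301 et1310 et1319 et1327) (.node et1336 et1345 et1354 et1362) (.node et1371 et1380 et1389 et1397)) (.node (.node et1406 et1415 et1424 et1432) (.node et1441 et1450 et1459 et1467) (.node et1476 et1485 et1494 et1502) (.node et1511 et1520 et1529 et1537)) (.node (.node et1546 et1555 et1564 et1572) (.node et1581 et1590 et1599 et1607) (.node et1616 et1625 et1634 et1642) (.node et1651 et1660 et1668 et1676))) (.node (.node (.node et1685 et1694 et1703 et1711) (.node et1720 et1729 et1738 et1746) (.node et1755 et1764 et1773 et1781) (.node et1790 et1799 et1808 et1816)) (.node (.node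 et1825 et1834 et1843 et1851) (.node et1860 et1869 et1878 et1886) (.node et1895 et1904 et1913 et1921) (.node et1930 et1939 et1948 et1956)) (.node (.node et1965 et1974 et1983 et1991) (.node et2000 et2009 et2018 et2026) (.node et2035 et2044 et2053 et2061) (.node et2070 et2079 et2088 et2096)) (.node (.node et2105 et2114 et2123 et2131) (.node et2140 et2149 et2158 et2166) (.node et2175 et2184 et2193 et2201) (.node et2210 et2219 et2227 et2235))))

/-- The certificate. -/
noncomputable def cert : Cert where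
  n := 14080
  nd := 15984
  nf := 74771
  kl := [0, 1, 2, 3, 4, 5, 6, 7, 8]
  facts := factTree
  cn := nodeTree
  steps := stepTree
  finals := finalTree
  rels := [[0, 0], [1, 1], [2, 2], [3, 3], [4, 4], [5, 5], [6, 6], [7, 7], [8, 8], [0, 1, 0, 1, 0, 1], [0, 2, 0, 2], [0, 3, 0, 3], [0, 4, 0, 4], [0, 5, 0, 5], [0, 6, 0, 6], [0, 7, 0, 7], [0, 8, 0, 8], [1, 2, 1, 2, 1, 2], [1, 3, 1, 3], [1, 4, 1, 4], [1, 5, 1, 5], [1, 6, 1, 6], [1, 7, 1, 7], [1, 8, 1, 8], [2, 3, 2, 3, 2, 3], [2, 4, 2, 4], [2, 5, 2, 5], [2, 6, 2, 6], [2, 7, 2, 7], [2, 8, 2, 8], [3, 4, 3, 4, 3, 4], [3, 5, 3, 5], [3, 6, 3, 6], [3, 7, 3, 7, 3, 7], [3, 8, 3, 8], [4, 5, 4, 5, 4, 5], [4, 6, 4, 6], [4, 7, 4, 7], [4, 8, 4, 8], [5, 6, 5, 6, 5, 6], [5, 7, 5, 7], [5, 8, 5, 8], [6, 7, 6, 7], [6, 8, 6, 8], [7, 8, 7, 8, 7, 8], [3, 2, 1, 3, 4, 5, 3, 7, 8, 3, 2, 1, 3, 4, 5, 3, 7, 8, 3, 2, 1, 3, 4, 5, 3, 7, 8, 3, 2, 1, 3, 4, 5, 3, 7, 8, 3, 2, 1, 3, 4, 5, 3, 7, 8, 3, 2, 1, 3, 4, 5, 3, 7, 8, 3, 2, 1, 3, 4,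 5, 3, 7, 8, 3, 2, 1, 3, 4, 5, 3, 7, 8, 3, 2, 1, 3, 4, 5, 3, 7, 8, 3, 2, 1, 3, 4, 5, 3, 7, 8], [0, 1, 2, 3, 4, 5, 7, 0, 1, 2, 3, 4, 5, 7, 0, 1, 2, 3, 4, 5, 7, 0, 1, 2, 3, 4, 5, 7, 0, 1, 2, 3, 4, 5, 7, 0, 1, 2, 3, 4, 5, 7, 0, 1, 2, 3, 4, 5, 7, 0, 1, 2, 3, 4, 5, 7, 0, 1, 2, 3, 4, 5, 7], [1, 2, 3, 4, 5, 6, 7, 1, 2, 3, 4, 5, 6, 7, 1, 2, 3, 4, 5, 6, 7, 1, 2, 3, 4, 5, 6, 7, 1, 2, 3, 4, 5, 6, 7, 1, 2, 3, 4, 5, 6, 7, 1, 2, 3, 4, 5, 6, 7, 1, 2, 3, 4, 5, 6, 7, 1, 2, 3, 4, 5, 6, 7]]
  subs := [[1], [2], [3], [4], [5], [6], [7], [8]]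

/-- Chains of the traced words. -/
noncomputable def closers : List ℕ := []

end CfsgLib.Recog.SporBound.Fi22D
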